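import Groth.Agent.ProjTwist.Basic
import Groth.Agent.ProjCoh.MulData
import Groth.Agent.TFOneLib.Modif2
import Groth.Agent.DevLib.Sub
import Groth.Agent.FactorOne.Basic
import Groth.Agent.DCohLib.Pullback
import Groth.Agent.AmpleEmb.RelVanish

/-!
# Multiplication by forms and a two-term Koszul sequence
-/

set_option autoImplicit false
set_option backward.isDefEq.respectTransparency false
set_option linter.style.haveILetI false
set_option maxHeartbeats 800000

universe u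

open CategoryTheory CategoryTheory.Limits AlgebraicGeometry TopologicalSpace Opposite
open Groth.Agent.PullbackMod

noncomputable section

namespace Groth.Agent.JumpP1Lib

section Proj

variable {R A : Type u} [CommRing R] [CommRing A] [Algebra R A] (𝒜 : ℕ → Submodule R A) [GradedAlgebra 𝒜]

/-- The unit as a form of degree zero. -/
def oneForm : 𝒜 0 := ⟨1, SetLike.one_mem_graded 𝒜⟩

theorem le_basicOpen_one (V : (Proj 𝒜).Opens) : V ≤ Proj.basicOpen 𝒜 (oneForm 𝒜).1 :=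
  le_of_le_of_eq le_top (Proj.basicOpen_one 𝒜).symm

/-- Multiplication by a form. -/
def mulForm {i : ℕ} (a : 𝒜 i) (d d' : ℤ) (h : (i : ℤ) + d = d') : Twist.twist 𝒜 d ⟶ Twist.twist 𝒜 d' :=
  SheafOfModules.Hom.mk <| PresheafOfModules.homMk
    { app := fun U => AddCommGrpCat.ofHom
        (ProjTwist.mulFrac 𝒜 a (oneForm 𝒜) d d' (by omega) (le_basicOpen_one 𝒜 U.unop))
      naturality := fun U V i => rfl }
    (fun U c f => by
      refine Subtype.ext (funext fun x => Subtype.ext ?_)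
      show Localization.mk a.1 ⟨(oneForm 𝒜).1, _⟩ * ((c.1 x • f.1 x : Twist.twistAt 𝒜 d x.1) : Twist.Loc 𝒜 x.1) =
        ((c.1 x • (ProjTwist.mulFracSect a (oneForm 𝒜) d d' (by omega) (le_basicOpen_one 𝒜 U.unop) f).1 x :
          Twist.twistAt 𝒜 d' x.1) : Twist.Loc 𝒜 x.1)
      rw [Twist.coe_smul_val, Twist.coe_smul_val, mul_left_comm]
      rfl)

theorem mulForm_app {i : ℕ} (a : 𝒜 i) (d d' : ℤ) (h : (i : ℤ) + d = d') (V : (Proj 𝒜).Opens) :
    ((mulForm 𝒜 a d d' h).app V : _ → _) =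
      ProjTwist.mulFrac 𝒜 a (oneForm 𝒜) d d' (by omega) (le_basicOpen_one 𝒜 V) := rfl

theorem bijective_mulForm {i : ℕ} (a : 𝒜 i) (d d' : ℤ) (h : (i : ℤ) + d = d') {x : Proj 𝒜}
    (hx : x ∈ Proj.basicOpen 𝒜 a.1) : Function.Bijective (stalkLin (mulForm 𝒜 a d d' h) x) :=
  ProjCoh.stalk_bijective_of_app (mulForm 𝒜 a d d' h) (U := Proj.basicOpen 𝒜 a.1)
    (fun V hV => ProjTwist.mulFrac_bijective a (oneForm 𝒜) d d' (by omega) (le_basicOpen_one 𝒜 V) hV) hx

theorem mulForm_comm {i j : ℕ} (a : 𝒜 i) (b : 𝒜 j) (d e e' f : ℤ) (h₁ : (i : ℤ) + d = e) (h₂ : (j : ℤ) + e = f)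
    (h₃ : (j : ℤ) + d = e') (h₄ : (i : ℤ) + e' = f) :
    mulForm 𝒜 a d e h₁ ≫ mulForm 𝒜 b e f h₂ = mulForm 𝒜 b d e' h₃ ≫ mulForm 𝒜 a e' f h₄ := by
  refine Scheme.Modules.hom_ext _ _ fun V => AddCommGrpCat.hom_ext (AddMonoidHom.ext fun s => ?_)
  refine Subtype.ext (funext fun x => Subtype.ext ?_)
  show Localization.mk b.1 _ * (Localization.mk a.1 _ * _) = Localization.mk a.1 _ * (Localization.mk b.1 _ * _)
  rw [mul_left_comm]

end Proj

section Koszul

variable {X : Scheme.{u}} {C A₁ A₂ B : X.Modules}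

theorem biprod_stalk_total (x : X) (w : (A₁ ⊞ A₂).presheaf.stalk x) :
    w = stalkLin (biprod.inl : A₁ ⟶ A₁ ⊞ A₂) x (stalkLin (biprod.fst : A₁ ⊞ A₂ ⟶ A₁) x w) +
      stalkLin (biprod.inr : A₂ ⟶ A₁ ⊞ A₂) x (stalkLin (biprod.snd : A₁ ⊞ A₂ ⟶ A₂) x w) := by
  have e := congrArg (fun f => stalkLin f x w) (biprod.total (X := A₁) (Y := A₂))
  simp only [DevLib.stalkLin_add, stalkLin_id, stalkLin_comp, LinearMap.add_apply, LinearMap.comp_apply,
    LinearMap.id_apply] at e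
  exact e.symm

/-- A commutative square with complementary isomorphisms at each point gives a short exact sequence. -/
theorem shortExact_koszul (a : C ⟶ A₁) (b : C ⟶ A₂) (p : A₁ ⟶ B) (q : A₂ ⟶ B) (w : a ≫ p = b ≫ q)
    (h : ∀ x, (Function.Bijective (stalkLin a x) ∧ Function.Bijective (stalkLin q x)) ∨
      (Function.Bijective (stalkLin b x) ∧ Function.Bijective (stalkLin p x))) :
    ∃ w' : biprod.lift a b ≫ biprod.desc p (-q) = 0,
      (ShortComplex.mk (biprod.lift a b) (biprod.desc p (-q)) w').ShortExact := by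
  have ha : ∀ x z, stalkLin (biprod.fst : A₁ ⊞ A₂ ⟶ A₁) x (stalkLin (biprod.lift a b) x z) = stalkLin a x z :=
    fun x z => TFOneLib.stalkLin_eq_of_comp (biprod.lift_fst a b) x z
  have hb : ∀ x z, stalkLin (biprod.snd : A₁ ⊞ A₂ ⟶ A₂) x (stalkLin (biprod.lift a b) x z) = stalkLin b x z :=
    fun x z => TFOneLib.stalkLin_eq_of_comp (biprod.lift_snd a b) x z
  have hg : ∀ x v, stalkLin (biprod.desc p (-q)) x v =
      stalkLin p x (stalkLin (biprod.fst : A₁ ⊞ A₂ ⟶ A₁) x v) -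
        stalkLin q x (stalkLin (biprod.snd : A₁ ⊞ A₂ ⟶ A₂) x v) := fun x v => by
    rw [show biprod.desc p (-q) = biprod.fst ≫ p - biprod.snd ≫ q by
      refine biprod.hom_ext' _ _ ?_ ?_ <;> simp]
    have e : stalkLin (biprod.fst ≫ p - biprod.snd ≫ q) x v + stalkLin ((biprod.snd : A₁ ⊞ A₂ ⟶ A₂) ≫ q) x v =
        stalkLin ((biprod.fst : A₁ ⊞ A₂ ⟶ A₁) ≫ p) x v := by
      rw [← LinearMap.add_apply, ← DevLib.stalkLin_add, sub_add_cancel]
    rw [stalkLin_comp, stalkLin_comp, LinearMap.comp_apply, LinearMap.comp_apply] at e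
    exact eq_sub_of_add_eq e
  refine TFOneLib.shortExact_of_stalk _ _ (fun x => ?_) (fun x => ?_) fun x => ?_
  · intro z z' e
    rcases h x with ⟨hx, -⟩ | ⟨hx, -⟩
    · exact hx.1 (by rw [← ha, ← ha, e])
    · exact hx.1 (by rw [← hb, ← hb, e])
  · intro v
    constructor
    · intro hv
      rw [hg, sub_eq_zero] at hv
      rcases h x with ⟨hx, hx'⟩ | ⟨hx, hx'⟩
      · obtain ⟨z, hz⟩ := hx.2 (stalkLin (biprod.fst : A₁ ⊞ A₂ ⟶ A₁) x v)
        refine ⟨z, ?_⟩
        have h2 : stalkLin b x z = stalkLin (biprod.snd : A₁ ⊞ A₂ ⟶ A₂) x v := hx'.1 (by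
          rw [← hv, ← hz, TFOneLib.stalkLin_eq_of_comp w x z, stalkLin_comp, LinearMap.comp_apply])
        rw [biprod_stalk_total x (stalkLin (biprod.lift a b) x z), biprod_stalk_total x v, ha, hb, hz, h2]
      · obtain ⟨z, hz⟩ := hx.2 (stalkLin (biprod.snd : A₁ ⊞ A₂ ⟶ A₂) x v)
        refine ⟨z, ?_⟩
        have h2 : stalkLin a x z = stalkLin (biprod.fst : A₁ ⊞ A₂ ⟶ A₁) x v := hx'.1 (by
          rw [hv, ← hz, TFOneLib.stalkLin_eq_of_comp w x z, stalkLin_comp, LinearMap.comp_apply])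
        rw [biprod_stalk_total x (stalkLin (biprod.lift a b) x z), biprod_stalk_total x v, ha, hb, hz, h2]
    · rintro ⟨z, rfl⟩
      rw [hg, ha, hb, sub_eq_zero, TFOneLib.stalkLin_eq_of_comp w x z, stalkLin_comp, LinearMap.comp_apply]
  · intro c
    rcases h x with ⟨-, hx⟩ | ⟨-, hx⟩
    · obtain ⟨z, hz⟩ := hx.2 (-c)
      refine ⟨stalkLin (biprod.inr : A₂ ⟶ A₁ ⊞ A₂) x z, ?_⟩
      rw [TFOneLib.stalkLin_eq_of_comp (biprod.inr_desc p (-q)) x z]
      have e : stalkLin (-q) x z + stalkLin q x z = 0 := by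
        rw [← LinearMap.add_apply, ← DevLib.stalkLin_add, neg_add_cancel, DevLib.stalkLin_zero, LinearMap.zero_apply]
      rw [hz] at e
      exact add_neg_eq_zero.1 e
    · obtain ⟨z, hz⟩ := hx.2 c
      exact ⟨stalkLin (biprod.inl : A₁ ⟶ A₁ ⊞ A₂) x z, by
        rw [TFOneLib.stalkLin_eq_of_comp (biprod.inl_desc p (-q)) x z, hz]⟩

end Koszul

/-- Pullback commutes with multiplication by global functions. -/
theorem pullback_map_mulEnd {X' X : Scheme.{u}} (g : X' ⟶ X) (M : X.Modules) (t : Γ(X, ⊤)) :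
    (Scheme.Modules.pullback g).map (FactorOne.mulEnd M t) =
      FactorOne.mulEnd ((Scheme.Modules.pullback g).obj M) (g.appTop t) := by
  refine ((Scheme.Modules.pullbackPushforwardAdjunction g).homEquiv _ _).injective ?_
  rw [Adjunction.homEquiv_unit, Adjunction.homEquiv_unit]
  refine ((Scheme.Modules.pullbackPushforwardAdjunction g).unit.naturality (FactorOne.mulEnd M t)).symm.trans ?_
  refine Scheme.Modules.hom_ext _ _ fun U => AddCommGrpCat.hom_ext (AddMonoidHom.ext fun m => ?_)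
  show ((Scheme.Modules.pullbackPushforwardAdjunction g).unit.app M).app U ((FactorOne.mulEnd M t).app U m) =
    (FactorOne.mulEnd ((Scheme.Modules.pullback g).obj M) (g.appTop t)).app (g ⁻¹ᵁ U)
      (((Scheme.Modules.pullbackPushforwardAdjunction g).unit.app M).app U m)
  rw [FactorOne.mulEnd_app, FactorOne.mulEnd_app, Scheme.Modules.Hom.app_smul]
  refine congrArg (fun c : Γ(X', g ⁻¹ᵁ U) => c • (show Γ((Scheme.Modules.pullback g).obj M, g ⁻¹ᵁ U) from
    ((Scheme.Modules.pullbackPushforwardAdjunction g).unit.app M).app U m)) ?_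
  exact (ConcreteCategory.congr_hom (g.naturality (homOfLE (le_top : U ≤ ⊤)).op) t)

end Groth.Agent.JumpP1Lib
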