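import Groth.Agent.JumpP1Lib.Forms
import Groth.Agent.PicProjLib.Pic
import Groth.Agent.GenSeesawLib.ProjFibre
import Groth.Agent.HodgePnLib.TangoSimple
import Groth.Agent.HodgePnLib.SerreSplit

/-!
# A jumping family of rank two bundles on the projective line
-/

set_option autoImplicit false
set_option backward.isDefEq.respectTransparency false
set_option linter.style.haveILetI false
set_option maxHeartbeats 800000

universe u

open CategoryTheory CategoryTheory.Limits AlgebraicGeometry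

noncomputable section

namespace Groth.Agent.JumpP1Lib

section Pullback

variable {X' X : Scheme.{u}} (g : X' ⟶ X)

/-- The image of a kernel of an epimorphism onto a flat module. -/
theorem exists_kernel_pullback {A B : X.Modules} (f : A ⟶ B) [Epi f] (hB : FlatMod.IsFlat B) :
    Nonempty ((Scheme.Modules.pullback g).obj (kernel f) ≅ kernel ((Scheme.Modules.pullback g).map f)) := by
  have h := DCohLib.shortExact_pullback_of_isFlat g _ (CMRegLib.shortExact_ker f) hB
  exact ⟨h.fIsKernel.conePointUniqueUpToIso (limit.isLimit _)⟩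

end Pullback

section Abelian

variable {C : Type*} [Category C] [Abelian C]

theorem kernel_desc_of_isIso {A B : C} (g : A ⟶ B) (t : B ⟶ B) [IsIso t] :
    Nonempty (kernel (biprod.desc g t) ≅ A) :=
  ⟨{ hom := kernel.ι _ ≫ biprod.fst
     inv := kernel.lift _ (biprod.lift (𝟙 A) (-(g ≫ inv t))) (by simp)
     hom_inv_id := by
       rw [← cancel_mono (kernel.ι (biprod.desc g t))]
       have h := congrArg (fun f => kernel.ι (biprod.desc g t) ≫ f) (biprod.desc_eq (f := g) (g := t))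
       simp only [kernel.condition, Preadditive.comp_add] at h
       refine biprod.hom_ext _ _ (by simp) ?_
       have h' : kernel.ι (biprod.desc g t) ≫ biprod.snd ≫ t = -(kernel.ι (biprod.desc g t) ≫ biprod.fst ≫ g) :=
         eq_neg_of_add_eq_zero_right h.symm
       rw [← cancel_mono t]
       simp [h']
     inv_hom_id := by simp }⟩

theorem kernel_desc_zero {A B : C} (g : A ⟶ B) :
    Nonempty (kernel (biprod.desc g (0 : B ⟶ B)) ≅ kernel g ⊞ B) :=
  ⟨{ hom := biprod.lift (kernel.lift g (kernel.ι _ ≫ biprod.fst) (by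
        rw [Category.assoc, show biprod.fst ≫ g = biprod.desc g (0 : B ⟶ B) by simp [biprod.desc_eq]]
        exact kernel.condition _)) (kernel.ι _ ≫ biprod.snd)
     inv := kernel.lift _ (biprod.map (kernel.ι g) (𝟙 B)) (by
        refine biprod.hom_ext' _ _ ?_ ?_ <;> simp)
     hom_inv_id := by
       rw [← cancel_mono (kernel.ι (biprod.desc g (0 : B ⟶ B)))]
       refine biprod.hom_ext _ _ ?_ ?_ <;> simp
     inv_hom_id := by
       refine biprod.hom_ext _ _ ?_ ?_
       · rw [← cancel_mono (kernel.ι g)]; simp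
       · simp }⟩

end Abelian

/-- The integers. -/
abbrev Zu : Type u := ULift.{u} ℤ

/-- The `j`th coordinate. -/
abbrev cf (j : Fin 2) : CohB1.polyGrading 1 Zu 1 := AmpleEmb.coordForm 1 Zu j

/-- A power of the first coordinate. -/
def powForm (m : ℕ) : CohB1.polyGrading 1 Zu m :=
  ⟨((cf.{u} 0).1) ^ m, by simpa using SetLike.pow_mem_graded m (cf.{u} 0).2⟩

variable (i : ℕ)


/-- The two forms. -/
theorem exists_koszul : ∃ (a : Twist.twistProjSpace 1 Zu.{u} (-((i : ℤ) + 1)) ⟶ Twist.twistProjSpace 1 Zu.{u} ((i : ℤ)) ⊞ Twist.twistProjSpace 1 Zu.{u} (-(i : ℤ)))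
    (g : Twist.twistProjSpace 1 Zu.{u} ((i : ℤ)) ⊞ Twist.twistProjSpace 1 Zu.{u} (-(i : ℤ)) ⟶ Twist.twistProjSpace 1 Zu.{u} ((i : ℤ) + 1)) (w : a ≫ g = 0), (ShortComplex.mk a g w).ShortExact := by
  let 𝒜 := CohB1.polyGrading 1 Zu
  let u := mulForm 𝒜 (powForm.{u} (2 * i + 1)) (-((i : ℤ) + 1)) (i : ℤ) (by push_cast; omega)
  let v := mulForm 𝒜 (cf.{u} 1) (-((i : ℤ) + 1)) (-(i : ℤ)) (by push_cast; omega)
  let p := mulForm 𝒜 (cf.{u} 1) (i : ℤ) ((i : ℤ) + 1) (by push_cast; omega)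
  let q := mulForm 𝒜 (powForm.{u} (2 * i + 1)) (-(i : ℤ)) ((i : ℤ) + 1) (by push_cast; omega)
  obtain ⟨w, h⟩ := shortExact_koszul u v p q (mulForm_comm 𝒜 _ _ _ _ _ _ _ _ _ _) fun x => by
    obtain ⟨a, ha⟩ := TopologicalSpace.Opens.mem_iSup.1
      ((AmpleEmb.iSup_stdOpen 1 Zu).ge (show x ∈ (⊤ : (CohB1.ProjSpace 1 Zu).Opens) from trivial))
    fin_cases a
    · have hx : x ∈ Proj.basicOpen 𝒜 (powForm.{u} (2 * i + 1)).1 := by
        show x ∈ Proj.basicOpen 𝒜 ((cf.{u} 0).1 ^ (2 * i + 1))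
        rw [Proj.basicOpen_pow _ _ _ (by omega)]
        exact ha
      exact Or.inl ⟨bijective_mulForm 𝒜 _ _ _ _ hx, bijective_mulForm 𝒜 _ _ _ _ hx⟩
    · exact Or.inr ⟨bijective_mulForm 𝒜 _ _ _ _ ha, bijective_mulForm 𝒜 _ _ _ _ ha⟩
  exact ⟨_, _, w, h⟩

variable (k : Type u) [Field k]

/-- The jumping family. -/
theorem exists_family : ∃ F : (CohB1.ProjSpaceOver 1 (Spec (CommRingCat.of (Polynomial k)))).Modules,
    FlatMod.IsFinLocFreeOfRank 2 F ∧ ∀ (a : k) (ι : CohB1.ProjSpaceOver 1 (Spec (CommRingCat.of k)) ⟶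
      CohB1.ProjSpaceOver 1 (Spec (CommRingCat.of (Polynomial k)))),
      ι ≫ pullback.fst _ _ = pullback.fst _ _ →
      ι ≫ CohB1.ProjSpaceOver.toBase 1 _ = CohB1.ProjSpaceOver.toBase 1 _ ≫
        Spec.map (CommRingCat.ofHom (Polynomial.evalRingHom a)) →
      (a = 0 → Nonempty ((Scheme.Modules.pullback ι).obj F ≅
          Twist.twistOver 1 (Spec (CommRingCat.of k)) ((i : ℤ) + 1) ⊞
            Twist.twistOver 1 (Spec (CommRingCat.of k)) (-((i : ℤ) + 1)))) ∧
      (a ≠ 0 → Nonempty ((Scheme.Modules.pullback ι).obj F ≅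
          Twist.twistOver 1 (Spec (CommRingCat.of k)) (i : ℤ) ⊞
            Twist.twistOver 1 (Spec (CommRingCat.of k)) (-(i : ℤ)))) := by
  obtain ⟨c, g₀, w, hS⟩ := exists_koszul.{u} i
  let T : Scheme.{u} := Spec (CommRingCat.of (Polynomial k))
  let P := CohB1.ProjSpaceOver 1 T
  let π : P ⟶ CohB1.ProjSpace 1 Zu := pullback.fst _ _
  let G := Scheme.Modules.pullback π
  haveI : PreservesBinaryBiproducts G := preservesBinaryBiproducts_of_preservesBinaryCoproducts G
  let t : Γ(P, ⊤) := (CohB1.ProjSpaceOver.toBase 1 T).appTop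
    ((Scheme.ΓSpecIso (CommRingCat.of (Polynomial k))).inv (Polynomial.X : Polynomial k))
  haveI : IsLocallyNoetherian T := inferInstanceAs (IsLocallyNoetherian (Spec _))
  haveI : IsLocallyNoetherian P := LocallyOfFiniteType.isLocallyNoetherian (CohB1.ProjSpaceOver.toBase 1 T)
  haveI := hS.epi_g
  haveI : Epi g₀ := hS.epi_g
  haveI : Epi (G.map g₀) := inferInstance
  let h : G.obj _ ⊞ G.obj _ ⟶ G.obj _ := biprod.desc (G.map g₀) (FactorOne.mulEnd (G.obj _) t)
  haveI : Epi h := epi_of_epi_fac (biprod.inl_desc (G.map g₀) _)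
  have hrB : FlatMod.IsFinLocFreeOfRank 1 (G.obj (Twist.twistProjSpace 1 Zu.{u} ((i : ℤ) + 1))) :=
    CurveLib.isFinLocFreeOfRank_one (AmpleLib.isInvertible_pullback _ (PicProjLib.isInvertible_twist _))
  have hr (d : ℤ) : FlatMod.IsFinLocFreeOfRank 1 (G.obj (Twist.twistProjSpace 1 Zu d)) :=
    CurveLib.isFinLocFreeOfRank_one (AmpleLib.isInvertible_pullback _ (PicProjLib.isInvertible_twist _))
  have hrA : FlatMod.IsFinLocFreeOfRank 2 (G.obj (Twist.twistProjSpace 1 Zu.{u} (i : ℤ) ⊞ Twist.twistProjSpace 1 Zu.{u} (-(i : ℤ)))) := fun x => by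
    obtain ⟨U, hU, ⟨e⟩⟩ := HodgePnLib.rank_biprod (hr (i : ℤ)) (hr (-(i : ℤ))) x
    exact ⟨U, hU, ⟨(Scheme.Modules.restrictFunctor U.ι).mapIso (G.mapBiprod _ _) ≪≫ e⟩⟩
  refine ⟨kernel h, HodgePnLib.rank_kernel_epi h (HodgePnLib.rank_biprod hrA hrB) hrB, fun a ι hι₁ hι₂ => ?_⟩
  let I := Scheme.Modules.pullback ι
  haveI : PreservesBinaryBiproducts I := preservesBinaryBiproducts_of_preservesBinaryCoproducts I
  let π' : CohB1.ProjSpaceOver 1 (Spec (CommRingCat.of k)) ⟶ CohB1.ProjSpace 1 Zu := pullback.fst _ _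
  let tw (d : ℤ) : I.obj (G.obj (Twist.twistProjSpace 1 Zu d)) ≅ Twist.twistOver 1 (Spec (CommRingCat.of k)) d :=
    (Scheme.Modules.pullbackComp ι π).app _ ≪≫ (Scheme.Modules.pullbackCongr hι₁).app _
  have hflat : FlatMod.IsFlat (G.obj (Twist.twistProjSpace 1 Zu.{u} ((i : ℤ) + 1))) :=
    fun x => PullbackMod.isFlat_of_isFinLocFree _ (KVb.isFinLocFree_of_rank hrB) x
  obtain ⟨eK⟩ := exists_kernel_pullback ι h hflat
  have hh : I.map h = (I.mapBiprod _ _).hom ≫ biprod.desc (I.map (G.map g₀)) (I.map (FactorOne.mulEnd (G.obj _) t)) :=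
    (biprod.mapBiprod_hom_desc I _ _ (G.map g₀) (FactorOne.mulEnd (G.obj _) t)).symm
  let eK' : I.obj (kernel h) ≅ kernel (biprod.desc (I.map (G.map g₀)) (I.map (FactorOne.mulEnd (G.obj _) t))) :=
    eK ≪≫ kernelIsoOfEq hh ≪≫ kernelIsIsoComp _ _
  have ht : ι.appTop t = (CohB1.ProjSpaceOver.toBase 1 (Spec (CommRingCat.of k))).appTop
      ((Scheme.ΓSpecIso (CommRingCat.of k)).inv a) := by
    show ((ι ≫ CohB1.ProjSpaceOver.toBase 1 T).appTop) _ = _
    rw [hι₂]
    refine congrArg ((CohB1.ProjSpaceOver.toBase 1 (Spec (CommRingCat.of k))).appTop) ?_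
    refine (ConcreteCategory.congr_hom
      (Scheme.ΓSpecIso_inv_naturality (CommRingCat.ofHom (Polynomial.evalRingHom a))) (Polynomial.X : Polynomial k)).symm.trans ?_
    exact congrArg (fun z : k => (Scheme.ΓSpecIso (CommRingCat.of k)).inv z) (Polynomial.eval_X (x := a))
  have hT := pullback_map_mulEnd ι (G.obj (Twist.twistProjSpace 1 Zu.{u} ((i : ℤ) + 1))) t
  rw [ht] at hT
  constructor
  · intro ha
    subst ha
    have hT0 : I.map (FactorOne.mulEnd (G.obj (Twist.twistProjSpace 1 Zu.{u} ((i : ℤ) + 1))) t) = 0 := by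
      refine hT.trans (Scheme.Modules.hom_ext _ _ fun U => AddCommGrpCat.hom_ext (AddMonoidHom.ext fun m => ?_))
      rw [FactorOne.mulEnd_app]
      simp
    obtain ⟨e₁⟩ := kernel_desc_zero (I.map (G.map g₀))
    haveI : Epi (I.map (G.map g₀)) := inferInstance
    have hflat' : FlatMod.IsFlat (Twist.twistProjSpace 1 Zu.{u} ((i : ℤ) + 1)) :=
      fun x => PullbackMod.isFlat_of_isFinLocFree _
        (CurveLib.isFinLocFree_of_isInvertible (PicProjLib.isInvertible_twist _)) x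
    have h1 := DCohLib.shortExact_pullback_of_isFlat π _ hS hflat'
    have h2 := DCohLib.shortExact_pullback_of_isFlat ι _ h1 hflat
    let eker : kernel (I.map (G.map g₀)) ≅ I.obj (G.obj (Twist.twistProjSpace 1 Zu.{u} (-((i : ℤ) + 1)))) :=
      (h2.fIsKernel.conePointUniqueUpToIso (limit.isLimit _)).symm
    exact ⟨eK' ≪≫ kernelIsoOfEq (by rw [hT0]) ≪≫ e₁ ≪≫ biprod.braiding _ _ ≪≫
      biprod.mapIso (tw _) (eker ≪≫ tw _)⟩
  · intro ha
    haveI : IsIso (I.map (FactorOne.mulEnd (G.obj (Twist.twistProjSpace 1 Zu.{u} ((i : ℤ) + 1))) t)) := by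
      rw [hT]
      let M := I.obj (G.obj (Twist.twistProjSpace 1 Zu.{u} ((i : ℤ) + 1)))
      let φ : k →+* Γ(CohB1.ProjSpaceOver 1 (Spec (CommRingCat.of k)), ⊤) :=
        (CohB1.ProjSpaceOver.toBase 1 (Spec (CommRingCat.of k))).appTop.hom.comp
          (Scheme.ΓSpecIso (CommRingCat.of k)).inv.hom
      have hcomp : ∀ x y : k, FactorOne.mulEnd M (φ x) ≫ FactorOne.mulEnd M (φ y) = FactorOne.mulEnd M (φ (y * x)) :=
        fun x y => Scheme.Modules.hom_ext _ _ fun U => AddCommGrpCat.hom_ext (AddMonoidHom.ext fun m => by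
          show (FactorOne.mulEnd M (φ y)).app U ((FactorOne.mulEnd M (φ x)).app U m) = (FactorOne.mulEnd M (φ (y * x))).app U m
          rw [FactorOne.mulEnd_app, FactorOne.mulEnd_app, FactorOne.mulEnd_app, smul_smul, ← map_mul, ← map_mul])
      have hone : FactorOne.mulEnd M (φ 1) = 𝟙 M :=
        Scheme.Modules.hom_ext _ _ fun U => AddCommGrpCat.hom_ext (AddMonoidHom.ext fun m => by
          rw [FactorOne.mulEnd_app, map_one, map_one, one_smul]
          rfl)
      exact ⟨FactorOne.mulEnd M (φ a⁻¹), (hcomp a a⁻¹).trans (by rw [inv_mul_cancel₀ ha, hone]),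
        (hcomp a⁻¹ a).trans (by rw [mul_inv_cancel₀ ha, hone])⟩
    obtain ⟨e₁⟩ := kernel_desc_of_isIso (I.map (G.map g₀)) (I.map (FactorOne.mulEnd (G.obj _) t))
    exact ⟨eK' ≪≫ e₁ ≪≫ I.mapIso (G.mapBiprod _ _) ≪≫ I.mapBiprod _ _ ≪≫ biprod.mapIso (tw _) (tw _)⟩

end Groth.Agent.JumpP1Lib
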